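import Cfsg.Prelude.Def_RootSubgroups
import Cfsg.Agent.Lib.Involutions.Basic

/-!
Odd transpositions: a member commuting with the product of two commuting members commutes with both, members with
product in the set have the same commuting members, and the middle member of two members with product of odd order.
-/

set_option autoImplicit false
set_option linter.unusedSectionVars false

namespace Cfsg.Agent.OddTrans

universe u

variable {G : Type u} [Group G] [Finite G] {D : Set G}

/-- A normal set of involutions in which two members commute or have product of odd order. -/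
structure OT (D : Set G) : Prop where
  two : ∀ d ∈ D, orderOf d = 2
  conj : ∀ d ∈ D, ∀ g : G, g * d * g⁻¹ ∈ D
  pair : ∀ a ∈ D, ∀ b ∈ D, Commute a b ∨ Odd (orderOf (a * b))

theorem OT.of_set (hD : Cfsg.IsOddTranspositionSet D) : OT D where
  two := hD.1.orderOf_eq
  conj := hD.1.conj_mem
  pair a ha b hb := by
    rcases hD.1.pair a ha b hb with h | h | h
    exacts [Or.inl h, Or.inr h, absurd h.1 (hD.2 a ha b hb)]

namespace OT

variable (h : OT D)
include h

theorem sq {a : G} (ha : a ∈ D) : a * a = 1 := Invol.mul_self (h.two a ha)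

theorem inv {a : G} (ha : a ∈ D) : a⁻¹ = a := Invol.inv_self (h.two a ha)

theorem ne_one {a : G} (ha : a ∈ D) : a ≠ 1 := Invol.ne_one (h.two a ha)

theorem eq_of_comm_odd {a b : G} (ha : a ∈ D) (hb : b ∈ D) (hc : Commute a b) (ho : Odd (orderOf (a * b))) :
    a = b := by
  have h1 : (a * b) ^ 2 = 1 := by rw [hc.mul_pow, pow_two, pow_two, h.sq ha, h.sq hb, one_mul]
  rw [← inv_eq_of_mul_eq_one_right (Invol.eq_one_of_sq_of_odd ho h1), h.inv ha]

theorem odd_of_not {a b : G} (ha : a ∈ D) (hb : b ∈ D) (hn : ¬ Commute a b) : Odd (orderOf (a * b)) :=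
  (h.pair a ha b hb).resolve_left hn

/-- A member commuting with the product of two commuting members commutes with both. -/
theorem product_comm {a b m : G} (ha : a ∈ D) (hb : b ∈ D) (hm : m ∈ D) (hab : Commute a b) (hne : a ≠ b)
    (hc : Commute m (a * b)) : Commute m a ∧ Commute m b := by
  suffices key : ∀ a b : G, a ∈ D → b ∈ D → Commute a b → a ≠ b → Commute m (a * b) → Commute m a from
    ⟨key a b ha hb hab hne hc, key b a hb ha hab.symm hne.symm (by rwa [hab.symm.eq])⟩
  clear hc hne hab ha hb a b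
  intro a b ha hb hab hne hc
  by_contra hn
  obtain ⟨a', hd⟩ : ∃ a', a' = m * a * m⁻¹ := ⟨_, rfl⟩
  obtain ⟨b', hd'⟩ : ∃ b', b' = m * b * m⁻¹ := ⟨_, rfl⟩
  have ha' : a' ∈ D := hd ▸ h.conj a ha m
  have hb' : b' ∈ D := hd' ▸ h.conj b hb m
  have haa : ¬ Commute a a' := fun hca => by
    have hne' : a ≠ a' := fun e => hn (show m * a = a * m from mul_inv_eq_iff_eq_mul.1 (e.trans hd).symm)
    have ho : Odd (orderOf ((m * a) ^ 2)) :=
      (h.odd_of_not hm ha hn).of_dvd_nat (orderOf_pow_dvd 2)
    rw [pow_two, show m * a * (m * a) = a' * a by rw [hd, h.inv hm]; group] at ho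
    exact hne' (h.eq_of_comm_odd ha' ha hca.symm ho).symm
  have hab' : Commute a' b' := hd ▸ hd' ▸ hab.map (MulAut.conj m).toMonoidHom
  have e1 : a' * b' = a * b := by
    rw [hd, hd', show m * a * m⁻¹ * (m * b * m⁻¹) = m * (a * b) * m⁻¹ by group, hc.eq, mul_inv_cancel_right]
  have e2 : b' = a * b * a' := by rw [← e1, hab'.eq, mul_assoc, h.sq ha', mul_one]
  have e3 : b * b' = a * a' := by rw [e2, ← mul_assoc, ← mul_assoc, hab.symm.eq, mul_assoc a, h.sq hb, mul_one]
  have e4 : b * (a * a') = (a * a')⁻¹ * b := by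
    have e5 : (a * a')⁻¹ = b' * b := by rw [← e3, mul_inv_rev, h.inv hb, h.inv hb']
    rw [e5, ← e3, ← mul_assoc, h.sq hb, one_mul, mul_assoc, h.sq hb, mul_one]
  have e6 : a * (a * a') = (a * a')⁻¹ * a := by
    rw [mul_inv_rev, h.inv ha, h.inv ha', ← mul_assoc, h.sq ha, one_mul, mul_assoc, h.sq ha, mul_one]
  have hu : Commute (b * a) (a * a') := by
    show b * a * (a * a') = a * a' * (b * a)
    have e4' : b * (a * a')⁻¹ = a * a' * b := by
      calc b * (a * a')⁻¹ = b * ((a * a')⁻¹ * b) * b := by rw [mul_assoc b, mul_assoc _ b b, h.sq hb, mul_one]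
        _ = b * (b * (a * a')) * b := by rw [e4]
        _ = a * a' * b := by rw [← mul_assoc b b, h.sq hb, one_mul]
    rw [mul_assoc b a, e6, ← mul_assoc b, e4', mul_assoc]
  have hz : a * a' ≠ 1 := fun e => haa (by
    rw [show a' = a from by rw [← h.inv ha]; exact (inv_eq_of_mul_eq_one_right e).symm])
  have hzo := h.odd_of_not ha ha' haa
  have hu2 : orderOf (b * a) = 2 := Invol.order_two_of_sq
    (by rw [hab.symm.eq, show a * b * (a * b) = a * (b * a) * b by group, hab.symm.eq,
      show a * (a * b) * b = a * a * (b * b) by group, h.sq ha, h.sq hb, one_mul])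
    fun e => hne (by rw [← inv_eq_of_mul_eq_one_right e, h.inv hb])
  have e7 : b * a' = b * a * (a * a') := by rw [mul_assoc, ← mul_assoc a a, h.sq ha, one_mul]
  have ho : orderOf (b * a') = 2 * orderOf (a * a') := by
    rw [e7, hu.orderOf_mul_eq_mul_orderOf_of_coprime (by rw [hu2]; exact Nat.coprime_two_left.2 hzo), hu2]
  rcases h.pair b hb a' ha' with h' | h'
  · have h1 : (b * a') ^ 2 = 1 := by rw [h'.mul_pow, pow_two, pow_two, h.sq hb, h.sq ha', one_mul]
    have h2 := orderOf_dvd_of_pow_eq_one h1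
    rw [ho] at h2
    exact hz (orderOf_eq_one_iff.1 (Nat.dvd_one.1 (Nat.dvd_of_mul_dvd_mul_left two_pos (by rwa [mul_one]))))
  · rw [ho] at h'
    exact Nat.not_even_iff_odd.2 h' (even_two_mul _)

/-- Two commuting members with product in the set have the same commuting members. -/
theorem triangle {a b m : G} (ha : a ∈ D) (hb : b ∈ D) (hab : Commute a b) (hne : a ≠ b) (hp : a * b ∈ D)
    (hm : m ∈ D) : Commute m a ↔ Commute m b := by
  suffices key : ∀ a b : G, a ∈ D → b ∈ D → Commute a b → a * b ∈ D → Commute m a → Commute m b from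
    ⟨key a b ha hb hab hp, key b a hb ha hab.symm (by rwa [hab.symm.eq])⟩
  clear hp hne hab ha hb a b
  intro a b ha hb hab hp hma
  have hne : b ≠ a * b := fun e => h.ne_one ha (mul_eq_right.1 e.symm)
  refine (h.product_comm hb hp hm ((hab.symm).mul_right (Commute.refl b)) hne ?_).1
  rwa [← mul_assoc, hab.symm.eq, mul_assoc, h.sq hb, mul_one]

/-- The middle member of two members with product of odd order. -/
theorem middle {y z : G} (hy : y ∈ D) (hz : z ∈ D) (ho : Odd (orderOf (y * z))) :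
    ∃ m ∈ D, m * y * m⁻¹ = z ∧ (∀ g : G, g * y * g⁻¹ = z → g * z * g⁻¹ = y → Commute g m) ∧
      ∀ c : G, Commute c y → Commute c z → Commute c m := by
  obtain ⟨l, hl⟩ := ho
  obtain ⟨r, hr⟩ : ∃ r, r = y * z := ⟨_, rfl⟩
  have hrn : r ^ (2 * l + 1) = 1 := by rw [← hl, hr]; exact pow_orderOf_eq_one _
  have hinv : y * r * y⁻¹ = r⁻¹ := hr ▸ Invol.conj_mul (h.two y hy) (h.two z hz)
  have hz' : z = r⁻¹ * y := by rw [hr, mul_inv_rev, h.inv hy, h.inv hz, mul_assoc, h.sq hy, mul_one]
  have hzy : z * y = r⁻¹ := by rw [hr, mul_inv_rev, h.inv hy, h.inv hz]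
  have hcj : ∀ i : ℕ, r ^ i * y * (r ^ i)⁻¹ = r ^ (2 * i) * y := fun i => by
    have e := Invol.zpow_mul_conj hinv (i : ℤ)
    rw [zpow_natCast, show (2 : ℤ) * (i : ℤ) = ((2 * i : ℕ) : ℤ) by push_cast; rfl, zpow_natCast] at e
    exact e
  have hll : r ^ (2 * (l * (l + 1))) = r ^ l := by
    rw [show 2 * (l * (l + 1)) = (2 * l + 1) * l + l by ring, pow_add, pow_mul, hrn, one_pow, one_mul]
  have h2l : r ^ (2 * l) = r⁻¹ := by
    refine eq_inv_of_mul_eq_one_left ?_
    rw [← pow_succ, hrn]
  refine ⟨r ^ l * y, ?_, ?_, fun g hg1 hg2 => ?_, fun c hcy hcz => ?_⟩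
  · rw [← hll, ← hcj]; exact h.conj y hy _
  · rw [show r ^ l * y * y * (r ^ l * y)⁻¹ = r ^ l * y * (r ^ l)⁻¹ by
      rw [mul_inv_rev, h.inv hy, mul_assoc (r ^ l) y y, h.sq hy, mul_one, mul_assoc], hcj, h2l, ← hz']
  · have e1 : g * r * g⁻¹ = r⁻¹ := by
      rw [hr, show g * (y * z) * g⁻¹ = g * y * g⁻¹ * (g * z * g⁻¹) by group, hg1, hg2, hzy, hr]
    have e2 : g * (r ^ l * y) * g⁻¹ = r ^ l * y := by
      rw [show g * (r ^ l * y) * g⁻¹ = g * r ^ l * g⁻¹ * (g * y * g⁻¹) by group, hg1, ← conj_pow, e1, hz',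
        inv_pow, ← mul_assoc]
      congr 1
      rw [← mul_inv_rev, ← pow_succ']
      refine inv_eq_of_mul_eq_one_right ?_
      rw [← pow_add, show l + 1 + l = 2 * l + 1 by ring, hrn]
    exact mul_inv_eq_iff_eq_mul.1 e2
  · exact ((hr ▸ hcy.mul_right hcz : Commute c r).pow_right l).mul_right hcy

/-- A member commuting with a member and with its conjugate by a member not commuting with it commutes with
the latter. -/
theorem comm_of_conj {x y t : G} (hy : y ∈ D) (ht : t ∈ D) (hn : ¬ Commute y t)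
    (h1 : Commute x y) (h2 : Commute x (t * y * t⁻¹)) : Commute x t := by
  obtain ⟨k, hk⟩ := Invol.exists_sqrt (h.odd_of_not hy ht hn)
  have h3 : Commute x ((y * t) ^ 2) := by
    rw [pow_two, show y * t * (y * t) = y * (t * y * t⁻¹) by rw [h.inv ht]; group]
    exact h1.mul_right h2
  have h4 : Commute x (y * t) := by
    rw [← hk, ← pow_mul, mul_comm, pow_mul]
    exact h3.pow_right k
  have h5 := h1.mul_right h4
  rwa [← mul_assoc, h.sq hy, one_mul] at h5

end OT

end Cfsg.Agent.OddTrans
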