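import Cfsg.Agent.Lib.OddTrans.Basic

/-!
A group with trivial 2-core generated by one member and a class of odd transpositions with equal commuting members:
the class with the identity is a group, and it contains every member commuting with one of its members.
-/

set_option autoImplicit false
set_option linter.unusedSectionVars false

namespace Cfsg.Agent.OddTrans

open Subgroup

universe u

variable {G : Type u} [Group G] [Finite G] {D : Set G} {d x : G}

/-- The setting. -/
structure Gen (D : Set G) (d x : G) : Prop where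
  ot : OT D
  dD : d ∈ D
  xD : x ∈ D
  ndx : ¬ Commute d x
  gen : closure (Cfsg.sameCommutingClass D d ∪ {x}) = ⊤
  core : ∀ N : Subgroup G, N.Normal → IsPGroup 2 N → N = ⊥

/-- A product of two members of the class outside `D`. -/
def NonTriangle (D : Set G) (d t : G) : Prop :=
  ∃ a ∈ Cfsg.sameCommutingClass D d, ∃ b ∈ Cfsg.sameCommutingClass D d, a ≠ b ∧ t = a * b ∧ t ∉ D

theorem mem_class {e : G} : e ∈ Cfsg.sameCommutingClass D d ↔
    e ∈ D ∧ ∀ m ∈ D, (Commute m d ↔ Commute m e) := by
  show e ∈ D ∧ Cfsg.commutingMembers D d = Cfsg.commutingMembers D e ↔ _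
  refine and_congr_right fun _ => ⟨fun h m hm => ?_, fun h => ?_⟩
  · exact ⟨fun hc => ((Set.ext_iff.1 h m).1 ⟨hm, hc⟩).2, fun hc => ((Set.ext_iff.1 h m).2 ⟨hm, hc⟩).2⟩
  · exact Set.ext fun m => ⟨fun ⟨hm, hc⟩ => ⟨hm, (h m hm).1 hc⟩, fun ⟨hm, hc⟩ => ⟨hm, (h m hm).2 hc⟩⟩

theorem class_comm (hd : d ∈ D) {a b : G} (ha : a ∈ Cfsg.sameCommutingClass D d)
    (hb : b ∈ Cfsg.sameCommutingClass D d) : Commute a b := by
  obtain ⟨haD, ha'⟩ := mem_class.1 ha
  obtain ⟨hbD, hb'⟩ := mem_class.1 hb
  exact (hb' a haD).1 ((ha' d hd).1 (Commute.refl d)).symm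

namespace Gen

variable (h : Gen D d x)
include h

local notation "E" => Cfsg.sameCommutingClass D d

theorem d_mem : d ∈ E := ⟨h.dD, rfl⟩

theorem mem_D {a : G} (ha : a ∈ E) : a ∈ D := ha.1

theorem not_comm_x {a : G} (ha : a ∈ E) : ¬ Commute x a := fun hc =>
  h.ndx (((mem_class.1 ha).2 x h.xD).2 hc).symm

theorem comm_class {m a b : G} (hm : m ∈ D) (ha : a ∈ E) (hb : b ∈ E) (hc : Commute m a) : Commute m b :=
  ((mem_class.1 hb).2 m hm).1 (((mem_class.1 ha).2 m hm).2 hc)

theorem triv {g : G} (h2 : g * g = 1) (hE : ∀ a ∈ E, Commute g a) (hx : Commute g x) : g = 1 := by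
  have hcen : g ∈ center G := by
    rw [mem_center_iff]
    intro y
    have hle : closure (E ∪ {x}) ≤ centralizer ({g} : Set G) := (closure_le _).2 (by
      rintro z (hz | rfl)
      · exact mem_centralizer_singleton_iff.2 (hE z hz).eq.symm
      · exact mem_centralizer_singleton_iff.2 hx.eq.symm)
    exact mem_centralizer_singleton_iff.1 (hle (h.gen ▸ mem_top y))
  have hn : (zpowers g).Normal := ⟨fun n hn y => by
    rw [mem_center_iff.1 (zpowers_le.2 hcen hn) y, mul_inv_cancel_right]; exact hn⟩
  have hp : IsPGroup 2 (zpowers g) := by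
    rintro ⟨y, i, rfl⟩
    refine ⟨1, Subtype.ext ?_⟩
    show (g ^ i) ^ 2 ^ 1 = 1
    rw [pow_one, ← zpow_natCast, ← zpow_mul, mul_comm, zpow_mul, zpow_natCast, pow_two, h2, one_zpow]
  have := h.core _ hn hp
  exact mem_bot.1 (this ▸ mem_zpowers g)

theorem span_comm {c a : G} (hc : c ∈ closure E) (ha : a ∈ E) : Commute c a := by
  induction hc using closure_induction with
  | mem y hy => exact class_comm h.dD hy ha
  | one => exact Commute.one_left _
  | mul _ _ _ _ h1 h2 => exact h1.mul_left h2
  | inv _ _ h1 => exact h1.inv_left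

theorem span_sq {c : G} (hc : c ∈ closure E) : c * c = 1 := by
  induction hc using closure_induction with
  | mem y hy => exact h.ot.sq hy.1
  | one => exact one_mul 1
  | mul a b ha hb h1 h2 =>
    have hab : Commute a b := by
      clear h1 h2
      induction hb using closure_induction with
      | mem y hy => exact h.span_comm ha hy
      | one => exact Commute.one_right _
      | mul _ _ _ _ i1 i2 => exact i1.mul_right i2
      | inv _ _ i1 => exact i1.inv_right
    rw [mul_assoc a, ← mul_assoc b, hab.symm.eq, mul_assoc a b, h2, mul_one, h1]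
  | inv a _ h1 => rw [← mul_inv_rev, h1, inv_one]

theorem NonTriangle.mem {t : G} (ht : NonTriangle D d t) : t ∈ closure E := by
  obtain ⟨a, ha, b, hb, -, rfl, -⟩ := ht
  exact mul_mem (subset_closure ha) (subset_closure hb)

theorem nt_inv {t : G} (ht : NonTriangle D d t) : t⁻¹ = t :=
  inv_eq_of_mul_eq_one_right (h.span_sq (NonTriangle.mem h ht))

theorem nt_ne {t : G} (ht : NonTriangle D d t) : t ≠ 1 := by
  obtain ⟨a, ha, b, -, hne, rfl, -⟩ := ht
  exact fun e => hne (by rw [← inv_eq_of_mul_eq_one_right e, h.ot.inv ha.1])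

theorem nt_not_comm {t : G} (ht : NonTriangle D d t) : ¬ Commute t x := fun hc =>
  h.nt_ne ht (h.triv (h.span_sq (NonTriangle.mem h ht)) (fun _ ha => h.span_comm (NonTriangle.mem h ht) ha) hc)

theorem nt_comm_x {t : G} (ht : NonTriangle D d t) : Commute x (t * x * t) := by
  by_contra hn
  have hti := h.nt_inv ht
  have hxD := h.xD
  have hx1 : t * x * t ∈ D := by have := h.ot.conj x hxD t; rwa [hti] at this
  obtain ⟨m, hm, hmx, hswap, -⟩ := h.ot.middle hxD hx1 (h.ot.odd_of_not hxD hx1 hn)
  have hts := h.span_sq (NonTriangle.mem h ht)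
  have htm : Commute t m := hswap t (by rw [hti]) (by
    rw [hti, show t * (t * x * t) * t = t * t * x * (t * t) by group, hts, one_mul, mul_one])
  obtain ⟨a, ha, b, hb, hne, hab, htD⟩ := ht
  have hma := (h.ot.product_comm ha.1 hb.1 hm (class_comm h.dD ha hb) hne (hab ▸ htm.symm)).1
  have h1 : t * m = 1 := by
    refine h.triv ?_ (fun c hc => ?_) ?_
    · rw [show t * m * (t * m) = t * (m * t) * m by group, ← htm.eq,
        show t * (t * m) * m = t * t * (m * m) by group, hts, h.ot.sq hm, one_mul]
    · exact (h.span_comm (NonTriangle.mem h ⟨a, ha, b, hb, hne, hab, htD⟩) hc).mul_left (h.comm_class hm ha hc hma)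
    · refine mul_inv_eq_iff_eq_mul.1 ?_
      rw [show t * m * x * (t * m)⁻¹ = t * (m * x * m⁻¹) * t⁻¹ by group, hmx, hti,
        show t * (t * x * t) * t = t * t * x * (t * t) by group, hts, one_mul, mul_one]
  exact htD (by rw [← hti, inv_eq_of_mul_eq_one_right h1]; exact hm)

/-- The involution `x * x ^ t` permutes the class. -/
theorem nt_perm {t : G} (ht : NonTriangle D d t) {c : G} (hc : c ∈ E) :
    (x * (t * x * t)) * c * (x * (t * x * t))⁻¹ ∈ E := by
  have hts := h.span_sq (NonTriangle.mem h ht)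
  obtain ⟨z, hz⟩ : ∃ z, z = x * (t * x * t) := ⟨_, rfl⟩
  have htz : Commute t z := by
    show t * z = z * t
    have e : z * t = x * t * x := by rw [hz, show x * (t * x * t) * t = x * t * x * (t * t) by group, hts, mul_one]
    rw [e, hz, (h.nt_comm_x ht).eq, show t * (t * x * t * x) = t * t * (x * t * x) by group, hts, one_mul]
  obtain ⟨a, ha, b, hb, hne, hab, htD⟩ := ht
  have hcomm : Commute (z * a * z⁻¹) (z * b * z⁻¹) := (class_comm h.dD ha hb).map (MulAut.conj z).toMonoidHom
  have e1 : t = z * a * z⁻¹ * (z * b * z⁻¹) := by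
    rw [show z * a * z⁻¹ * (z * b * z⁻¹) = z * (a * b) * z⁻¹ by group, ← hab, ← htz.eq, mul_inv_cancel_right]
  have key : ∀ m ∈ D, (Commute m a ↔ Commute m (z * a * z⁻¹)) := by
    refine fun m hm => ⟨fun hma => ?_, fun hmq => ?_⟩
    · have hmt : Commute m t := hab ▸ hma.mul_right (h.comm_class hm ha hb hma)
      exact (h.ot.product_comm (h.ot.conj a ha.1 z) (h.ot.conj b hb.1 z) hm hcomm
        (fun e => hne (mul_left_cancel (mul_right_cancel e))) (e1 ▸ hmt)).1
    · have hm' : z⁻¹ * m * z ∈ D := by simpa using h.ot.conj m hm z⁻¹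
      have h1 : Commute (z⁻¹ * m * z) a := by
        have := hmq.map (MulAut.conj z⁻¹).toMonoidHom
        simpa [mul_assoc] using this
      have h2 : Commute (z⁻¹ * m * z) t := hab ▸ h1.mul_right (h.comm_class hm' ha hb h1)
      have h3 := h2.map (MulAut.conj z).toMonoidHom
      simp only [MulEquiv.coe_toMonoidHom, MulAut.conj_apply, ← htz.eq, mul_inv_cancel_right,
        show z * (z⁻¹ * m * z) * z⁻¹ = m by group] at h3
      exact (h.ot.product_comm ha.1 hb.1 hm (class_comm h.dD ha hb) hne (hab ▸ h3)).1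
  rw [← hz]
  refine mem_class.2 ⟨h.ot.conj c hc.1 z, fun m hm => ?_⟩
  rw [(mem_class.1 ha).2 m hm, key m hm]
  have hm' : z⁻¹ * m * z ∈ D := by simpa using h.ot.conj m hm z⁻¹
  have hiff : ∀ y : G, Commute m (z * y * z⁻¹) ↔ Commute (z⁻¹ * m * z) y := fun y => by
    constructor <;> intro e
    · have := e.map (MulAut.conj z⁻¹).toMonoidHom
      simpa [mul_assoc] using this
    · have := e.map (MulAut.conj z).toMonoidHom
      simpa [mul_assoc] using this
  rw [hiff, hiff]
  exact ⟨h.comm_class hm' ha hc, h.comm_class hm' hc ha⟩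

theorem nt_span {t c : G} (ht : NonTriangle D d t) (hc : c ∈ closure E) :
    (x * (t * x * t)) * c * (x * (t * x * t))⁻¹ ∈ closure E := by
  induction hc using closure_induction with
  | mem y hy => exact subset_closure (h.nt_perm ht hy)
  | one => rw [mul_one, mul_inv_cancel]; exact one_mem _
  | mul a b _ _ h1 h2 =>
    generalize x * (t * x * t) = z at h1 h2 ⊢
    rw [show z * (a * b) * z⁻¹ = z * a * z⁻¹ * (z * b * z⁻¹) by group]
    exact mul_mem h1 h2
  | inv a _ h1 =>
    generalize x * (t * x * t) = z at h1 ⊢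
    rw [show z * a⁻¹ * z⁻¹ = (z * a * z⁻¹)⁻¹ by group]
    exact inv_mem h1

theorem nt_pair {t t' : G} (ht : NonTriangle D d t) (ht' : NonTriangle D d t') :
    Commute (t * x * t) (t' * x * t') := by
  have hxD := h.xD
  have hi := h.nt_inv ht
  have hi' := h.nt_inv ht'
  have h1 : t * x * t ∈ D := by have := h.ot.conj x hxD t; rwa [hi] at this
  have h2 : t' * x * t' ∈ D := by have := h.ot.conj x hxD t'; rwa [hi'] at this
  by_contra hn
  have ho := h.ot.odd_of_not h1 h2 hn
  obtain ⟨u, hu⟩ : ∃ u, u = x * t * x := ⟨_, rfl⟩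
  obtain ⟨v, hv⟩ : ∃ v, v = x * t' * x := ⟨_, rfl⟩
  have hts := h.span_sq (NonTriangle.mem h ht)
  have hts' := h.span_sq (NonTriangle.mem h ht')
  have hxx := h.ot.sq hxD
  have huu : u * u = 1 := by
    rw [hu, show x * t * x * (x * t * x) = x * t * (x * x) * t * x by group, hxx, mul_one,
      show x * t * t * x = x * (t * t) * x by group, hts, mul_one, hxx]
  have hvv : v * v = 1 := by
    rw [hv, show x * t' * x * (x * t' * x) = x * t' * (x * x) * t' * x by group, hxx, mul_one,
      show x * t' * t' * x = x * (t' * t') * x by group, hts', mul_one, hxx]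
  have huv : Commute u v := by
    have hc : Commute t t' := by
      obtain ⟨a, ha, b, hb, -, rfl, -⟩ := ht'
      exact (h.span_comm (NonTriangle.mem h ht) ha).mul_right (h.span_comm (NonTriangle.mem h ht) hb)
    have := hc.map (MulAut.conj x).toMonoidHom
    rw [hu, hv]
    simpa [h.ot.inv hxD] using this
  have hnorm : ∀ s, NonTriangle D d s → ∀ c ∈ closure E, (x * s * x) * c * (x * s * x)⁻¹ ∈ closure E := by
    intro s hs c hc
    have e : x * s * x = x * (s * x * s) * s := by
      rw [show x * (s * x * s) * s = x * s * x * (s * s) by group, h.span_sq (NonTriangle.mem h hs), mul_one]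
    rw [e, show x * (s * x * s) * s * c * (x * (s * x * s) * s)⁻¹ =
      x * (s * x * s) * (s * c * s⁻¹) * (x * (s * x * s))⁻¹ by group]
    exact h.nt_span hs (mul_mem (mul_mem (NonTriangle.mem h hs) hc) (inv_mem (NonTriangle.mem h hs)))
  obtain ⟨w, hw⟩ : ∃ w, w = t * x * t * (t' * x * t') := ⟨_, rfl⟩
  rw [← hw] at ho
  have hw2 : w ^ 2 ∈ closure E := by
    have e0 : w = x * (t * x * t) * (x * (t' * x * t')) := by
      rw [(h.nt_comm_x ht).eq, hw, show t * x * t * x * (x * (t' * x * t')) =
        t * x * t * (x * x) * (t' * x * t') by group, hxx, mul_one]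
    have e1 : w = u * v * ((v⁻¹ * t * v) * t') := by rw [e0, hu, hv]; group
    have hτ : v⁻¹ * t * v * t' ∈ closure E := by
      refine mul_mem ?_ (NonTriangle.mem h ht')
      rw [inv_eq_of_mul_eq_one_right hvv]
      have := hnorm t' ht' t (NonTriangle.mem h ht)
      rwa [← hv, inv_eq_of_mul_eq_one_right hvv] at this
    have e2 : u * v * (u * v) = 1 := by
      rw [show u * v * (u * v) = u * (v * u) * v by group, ← huv.eq,
        show u * (u * v) * v = u * u * (v * v) by group, huu, hvv, one_mul]
    have hτ2 : u * v * (v⁻¹ * t * v * t') * (u * v) ∈ closure E := by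
      rw [show u * v * (v⁻¹ * t * v * t') * (u * v) =
        u * (v * (v⁻¹ * t * v * t') * v⁻¹) * u⁻¹ * (u * (v * u) * v) by group, ← huv.eq,
        show u * (u * v) * v = u * u * (v * v) by group, huu, hvv, one_mul, mul_one]
      have h5 := hnorm t' ht' _ hτ
      rw [← hv] at h5
      have h6 := hnorm t ht _ h5
      rwa [← hu] at h6
    have e3 : w ^ 2 = u * v * (v⁻¹ * t * v * t') * (u * v) * (v⁻¹ * t * v * t') := by rw [pow_two, e1]; group
    rw [e3]
    exact mul_mem hτ2 hτ
  have h4 : w ^ 2 = 1 := Invol.eq_one_of_sq_of_odd (ho.of_dvd_nat (orderOf_pow_dvd 2))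
    (by rw [pow_two (w ^ 2)]; exact h.span_sq hw2)
  have hw1 : w = 1 := Invol.eq_one_of_sq_of_odd ho h4
  exact hn (by rw [← inv_eq_of_mul_eq_one_right (hw.symm.trans hw1), h.ot.inv h1])

/-- The products of two members of the class are in `D`. -/
theorem pair_mem {a b : G} (ha : a ∈ E) (hb : b ∈ E) (hne : a ≠ b) : a * b ∈ D := by
  by_contra hab
  have ht₀ : NonTriangle D d (a * b) := ⟨a, ha, b, hb, hne, rfl, hab⟩
  set P := {g | ∃ t, NonTriangle D d t ∧ (g = t ∨ g = x * (t * x * t))} with hP
  have hxx := h.ot.sq h.xD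
  have hzz : ∀ t, NonTriangle D d t → (x * (t * x * t)) * (x * (t * x * t)) = 1 := fun t ht => by
    have h1 : t * x * t * (t * x * t) = 1 := by
      rw [show t * x * t * (t * x * t) = t * x * (t * t) * x * t by group,
        h.span_sq (NonTriangle.mem h ht), mul_one, show t * x * x * t = t * (x * x) * t by group, hxx, mul_one,
        h.span_sq (NonTriangle.mem h ht)]
    generalize hy : t * x * t = y at h1
    rw [show x * y * (x * y) = x * (y * x) * y by group, (hy ▸ h.nt_comm_x ht : Commute x y).symm.eq,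
      show x * (x * y) * y = x * x * (y * y) by group, hxx, h1, one_mul]
  have hzx : ∀ t, NonTriangle D d t → Commute (x * (t * x * t)) x := fun t ht =>
    (Commute.refl x).mul_left (h.nt_comm_x ht).symm
  have hcomm : ∀ g ∈ P, ∀ g' ∈ P, g * g' = g' * g := by
    have hzt : ∀ t t', NonTriangle D d t → NonTriangle D d t' → Commute (x * (t * x * t)) t' := by
      intro t t' ht ht'
      have htm := NonTriangle.mem h ht'
      have hti' := h.nt_inv ht'
      have hzi := inv_eq_of_mul_eq_one_right (hzz t ht)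
      have hmem := mul_mem (h.nt_span ht htm) htm
      rw [hzi] at hmem
      have h1 : (x * (t * x * t)) * t' * (x * (t * x * t)) * t' = 1 := by
        refine h.triv (h.span_sq hmem) (fun c hc => h.span_comm hmem hc) ?_
        rw [show x * (t * x * t) * t' * (x * (t * x * t)) * t' =
          x * (t * x * t) * ((t' * x * t'⁻¹) * (t' * (t * x * t) * t')) by group, hti']
        refine (hzx t ht).mul_left (Commute.mul_left (h.nt_comm_x ht').symm ?_)
        have h2 := (h.nt_pair ht' ht).map (MulAut.conj t').toMonoidHom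
        simp only [MulEquiv.coe_toMonoidHom, MulAut.conj_apply, hti',
          show t' * (t' * x * t') * t' = t' * t' * x * (t' * t') by group,
          h.span_sq htm, one_mul, mul_one] at h2
        exact h2.symm
      show _ = _
      have hzz' := hzz t ht
      generalize x * (t * x * t) = z at h1 hzz' ⊢
      have h3 := mul_eq_one_iff_eq_inv.1 h1
      rw [hti'] at h3
      calc z * t' = z * t' * (z * z) := by rw [hzz', mul_one]
        _ = z * t' * z * z := by rw [mul_assoc (z * t')]
        _ = t' * z := by rw [h3]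
    rintro g ⟨t, ht, rfl | rfl⟩ g' ⟨t', ht', rfl | rfl⟩
    · obtain ⟨a', ha', b', hb', -, e, -⟩ := ht'
      rw [e]
      exact ((h.span_comm (NonTriangle.mem h ht) ha').mul_right (h.span_comm (NonTriangle.mem h ht) hb')).eq
    · exact (hzt t' g ht' ht).eq.symm
    · exact (hzt t g' ht ht').eq
    · exact ((hzx t ht).mul_right
        ((h.nt_comm_x ht').mul_left (h.nt_pair ht ht'))).eq
  set N := closure P with hN
  haveI := isMulCommutative_closure hcomm
  have hNp : IsPGroup 2 N := by
    intro g
    refine ⟨1, Subtype.ext ?_⟩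
    show (g : G) ^ 2 ^ 1 = 1
    rw [pow_one]
    obtain ⟨g, hg⟩ := g
    show g ^ 2 = 1
    induction hg using closure_induction with
    | mem y hy =>
      obtain ⟨t, ht, rfl | rfl⟩ := hy
      · rw [pow_two]; exact h.span_sq (NonTriangle.mem h ht)
      · rw [pow_two]; exact hzz t ht
    | one => exact one_pow 2
    | mul y y' hy hy' i1 i2 =>
      have e : y * y' = y' * y := congrArg Subtype.val (mul_comm' (⟨y, hy⟩ : N) ⟨y', hy'⟩)
      rw [(show Commute y y' from e).mul_pow, i1, i2, one_mul]
    | inv y _ i1 => rw [inv_pow, i1, inv_one]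
  have hNn : N.Normal := by
    rw [← normalizer_eq_top_iff, eq_top_iff, ← h.gen, closure_le]
    intro e he
    refine mem_normalizer_fintype fun g hg => ?_
    induction hg using closure_induction with
    | mem y hy =>
      obtain ⟨t, ht, hyt⟩ := hy
      rcases he with he | rfl
      · rcases hyt with rfl | rfl
        · rw [(h.span_comm (NonTriangle.mem h ht) he).symm.eq, mul_inv_cancel_right]
          exact subset_closure ⟨y, ht, Or.inl rfl⟩
        · obtain ⟨z, hz⟩ : ∃ z, z = x * (t * x * t) := ⟨_, rfl⟩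
          have hzN : z ∈ N := subset_closure ⟨t, ht, Or.inr hz⟩
          have hzi : z⁻¹ = z := inv_eq_of_mul_eq_one_right (hz ▸ hzz t ht)
          have hq : z * e * z⁻¹ ∈ E := hz ▸ h.nt_perm ht he
          rw [← hz, h.ot.inv he.1, show e * z * e = z * (z⁻¹ * e * z * e) by group]
          refine mul_mem hzN ?_
          rw [show z⁻¹ * e * z * e = z * e * z⁻¹ * e by rw [hzi]]
          by_cases hqe : z * e * z⁻¹ = e
          · rw [hqe, h.ot.sq he.1]; exact one_mem N
          refine subset_closure ⟨_, ⟨_, hq, e, he, hqe, rfl, fun hD => ?_⟩, Or.inl rfl⟩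
          have hcz : Commute (z * e * z⁻¹ * e) z := by
            have hqe' : Commute (z * e * z⁻¹) e := class_comm h.dD hq he
            refine Commute.symm ?_
            show z * _ = _ * z
            calc z * (z * e * z⁻¹ * e) = (z * z) * e * z⁻¹ * e := by group
              _ = e * z⁻¹ * e := by rw [hz, hzz t ht, one_mul]
              _ = e * (z * e * z⁻¹) * z := by rw [hzi]; rw [show e * (z * e * z) * z = e * z * e * (z * z) by group,
                  hz, hzz t ht, mul_one]
              _ = (z * e * z⁻¹ * e) * z := by rw [← hqe'.eq]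
          have hx1 : t * x * t ∈ D := by have := h.ot.conj x h.xD t; rwa [h.nt_inv ht] at this
          have hτx := (h.ot.product_comm h.xD hx1 hD (h.nt_comm_x ht) (fun e0 => h.nt_not_comm ht (by
            show t * x = x * t
            calc t * x = t * x * (t * t) := by rw [h.span_sq (NonTriangle.mem h ht), mul_one]
              _ = t * x * t * t := by group
              _ = x * t := by rw [← e0])) (hz ▸ hcz)).1
          exact h.ot.ne_one hD (h.triv (h.ot.sq hD) (fun c hc => h.span_comm
            (mul_mem (subset_closure hq) (subset_closure he)) hc) hτx)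
      · rcases hyt with rfl | rfl
        · have e1 : e * y * e⁻¹ = e * (y * e * y) * y := by
            rw [show e * (y * e * y) * y = e * y * e * (y * y) by group,
              h.span_sq (NonTriangle.mem h ht), mul_one, h.ot.inv h.xD]
          rw [e1]
          exact mul_mem (subset_closure ⟨y, ht, Or.inr rfl⟩) (subset_closure ⟨y, ht, Or.inl rfl⟩)
        · rw [(hzx t ht).symm.eq, mul_inv_cancel_right]
          exact subset_closure ⟨t, ht, Or.inr rfl⟩
    | one => simp
    | mul a b _ _ i1 i2 =>
      rw [show e * (a * b) * e⁻¹ = e * a * e⁻¹ * (e * b * e⁻¹) by group]; exact mul_mem i1 i2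
    | inv a _ i1 => rw [show e * a⁻¹ * e⁻¹ = (e * a * e⁻¹)⁻¹ by group]; exact inv_mem i1
  exact h.nt_ne ht₀ (mem_bot.1 (h.core N hNn hNp ▸ subset_closure ⟨_, ht₀, Or.inl rfl⟩))

theorem pair_class {a b : G} (ha : a ∈ E) (hb : b ∈ E) (hne : a ≠ b) : a * b ∈ E := by
  have hab := h.pair_mem ha hb hne
  refine mem_class.2 ⟨hab, fun m hm => ?_⟩
  rw [(mem_class.1 ha).2 m hm]
  refine h.ot.triangle ha.1 hab ((Commute.refl a).mul_right (class_comm h.dD ha hb))
    (fun e => h.ot.ne_one hb.1 (mul_eq_left.1 e.symm)) ?_ hm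
  rw [← mul_assoc, h.ot.sq ha.1, one_mul]; exact hb.1

/-- A member commuting with a member of the class lies in it. -/
theorem comm_mem {e : G} (he : e ∈ D) (hed : Commute e d) : e ∈ E := by
  by_contra heE
  have hecl : ∀ c ∈ E, Commute e c := fun c hc => h.comm_class he h.d_mem hc hed
  have hex : ¬ Commute e x := fun hc => h.ot.ne_one he (h.triv (h.ot.sq he) hecl hc)
  have hinv : ∀ c ∈ E, (c * e)⁻¹ = c * e := fun c hc => by
    rw [mul_inv_rev, h.ot.inv he, h.ot.inv hc.1, (hecl c hc).eq]
  obtain ⟨c, hc, hnc⟩ : ∃ c ∈ E, ¬ Commute x (c * e * x * (c * e)⁻¹) := by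
    by_contra hall
    push Not at hall
    by_cases hone : ∃ c ∈ E, c ≠ d
    · obtain ⟨c, hc, hcd⟩ := hone
      have ht := h.pair_class h.d_mem hc hcd.symm
      have h1 := hall d h.d_mem
      have h2 := hall c hc
      have e1 : c * e * x * (c * e)⁻¹ = (d * c) * (d * e * x * (d * e)⁻¹) * (d * c)⁻¹ := by
        have : d * c * (d * e) = c * e := by
          rw [(class_comm h.dD h.d_mem hc).eq, mul_assoc, ← mul_assoc d, h.ot.sq h.dD, one_mul]
        rw [← this]; group
      rw [e1] at h2
      refine h.not_comm_x ht (h.ot.comm_of_conj (h.ot.conj x h.xD _) ht.1 (fun hy => ?_) h1 h2)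
      have := hy.map (MulAut.conj (d * e)⁻¹).toMonoidHom
      simp only [MulEquiv.coe_toMonoidHom, MulAut.conj_apply, inv_inv,
        show (d * e)⁻¹ * (d * e * x * (d * e)⁻¹) * (d * e) = x by group] at this
      have hct : Commute (d * e) (d * c) := ((class_comm h.dD h.d_mem ht).symm.symm).mul_left (hecl _ ht)
      rw [mul_assoc, ← hct.eq, inv_mul_cancel_left] at this
      exact h.not_comm_x ht this
    · push Not at hone
      have hgen : closure ({d, x} : Set G) = ⊤ := by
        rw [eq_top_iff, ← h.gen, closure_le]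
        rintro c (hc | rfl)
        · rw [hone c hc]; exact subset_closure (Or.inl rfl)
        · exact subset_closure (Or.inr rfl)
      obtain ⟨k, hk⟩ := Invol.mem_closure_pair (h.ot.two d h.dD) (h.ot.two x h.xD) (hgen ▸ mem_top e)
      have hinv' := Invol.conj_mul (h.ot.two d h.dD) (h.ot.two x h.xD)
      have ho := h.ot.odd_of_not h.dD h.xD h.ndx
      have hk0 : (d * x) ^ k = 1 → False := fun h0 => by
        rcases hk with hk | hk
        · exact h.ot.ne_one he (hk.trans h0)
        · exact heE (by rw [hk, h0, one_mul]; exact h.d_mem)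
      refine hk0 (Invol.eq_one_of_sq_of_odd (ho.of_dvd_nat (orderOf_dvd_of_mem_zpowers ⟨k, rfl⟩)) ?_)
      have e2 := Invol.conj_zpow hinv' k
      rw [h.ot.inv h.dD, zpow_neg] at e2
      have e3 : d * (d * x) ^ k * d = (d * x) ^ k := by
        rcases hk with hk | hk
        · rw [← hk, ← hed.eq, mul_assoc, h.ot.sq h.dD, mul_one]
        · have e4 : e * d = (d * x) ^ k := by rw [hk, mul_assoc, h.ot.sq h.dD, mul_one]
          rw [← e4, ← mul_assoc, ← hed.eq, mul_assoc e d d, h.ot.sq h.dD, mul_one]
      rw [e3] at e2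
      rw [pow_two]
      nth_rw 2 [e2]
      exact mul_inv_cancel _
  have hxD' := h.ot.conj x h.xD (c * e)
  obtain ⟨m, hm, hmx, hswap, -⟩ := h.ot.middle h.xD hxD' (h.ot.odd_of_not h.xD hxD' hnc)
  have hgg : c * e * (c * e) = 1 := mul_eq_one_iff_eq_inv.2 (hinv c hc).symm
  have hgm : Commute (c * e) m := hswap _ rfl (by
    rw [show c * e * (c * e * x * (c * e)⁻¹) * (c * e)⁻¹ = c * e * (c * e) * x * (c * e * (c * e))⁻¹ by group,
      hgg]
    group)
  have hne : c ≠ e := fun e0 => heE (e0 ▸ hc)
  have hmc := (h.ot.product_comm hc.1 he hm (hecl c hc).symm hne hgm.symm).1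
  have h1 : c * e * m = 1 := by
    refine h.triv ?_ (fun b hb => ((class_comm h.dD hc hb).mul_left (hecl b hb)).mul_left
      (h.comm_class hm hc hb hmc)) ?_
    · rw [show c * e * m * (c * e * m) = c * e * (m * (c * e)) * m by group, ← hgm.eq,
        show c * e * (c * e * m) * m = c * e * (c * e) * (m * m) by group, hgg, h.ot.sq hm, one_mul]
    · refine mul_inv_eq_iff_eq_mul.1 ?_
      rw [show c * e * m * x * (c * e * m)⁻¹ = c * e * (m * x * m⁻¹) * (c * e)⁻¹ by group, hmx,
        show c * e * (c * e * x * (c * e)⁻¹) * (c * e)⁻¹ = c * e * (c * e) * x * (c * e * (c * e))⁻¹ by group,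
        hgg]
      group
  have hceD : c * e ∈ D := by rw [mul_eq_one_iff_eq_inv.1 h1, h.ot.inv hm]; exact hm
  refine heE (mem_class.2 ⟨he, fun b hb => ?_⟩)
  rw [(mem_class.1 hc).2 b hb]
  exact h.ot.triangle hc.1 he (hecl c hc).symm hne hceD hb

end Gen

end Cfsg.Agent.OddTrans
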